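import Cfsg.Agent.H622.Levi.NonSwap
import Cfsg.Agent.H40.GGRgd
import Cfsg.Agent.H246.Dl.KTypeMJ_m3
import Cfsg.Agent.H53.HC.ExcIn
import Cfsg.Agent.ChevalleyStructure.HMatDiagAll
import Cfsg.Agent.FastGrp
import Cfsg.Agent.Prune
set_option linter.all false

section
prune_inst 0x7f00000000000000000000000000000000000000000000000000000000000000000000000000000000000000000000000000000000000000000000000000000000000000000000000000000000000000003fffffffffffffffffffffffffffbeffbdffffffff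

-- part: H64/Dl/Tor
section
set_option linter.all false
open scoped Cfsg.Agent.FastGrp

/-!
# Torus elements of root group data from the subgroups of type `A_2` (helper64, for S4769)

* `mu_mem` : uniqueness of the `μ`-elements;
* `Co.d0_mem`, `Co.d1_mem` : the images of the diagonal matrices lie in the torus;
* `exists_Q` : if all nodes have a simply joined neighbour, `T` is commutative and `p` divides all `q_i - 1` then some
  `p`-subgroup `Q` of `T` has no fixed points on `U`.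
-/

set_option autoImplicit false
set_option linter.unusedSectionVars false

namespace Cfsg.Agent.H64.Dl

open CoxeterSystem Cfsg.Agent.ChevalleyStructure.CoxeterGeom Cfsg.Agent.Tits.Roots Cfsg.Agent.Tits.Core
  Cfsg.Agent.Tits.RootComb Cfsg.Agent.Nodes.Comb Cfsg.Agent.Nodes.Reps Cfsg.Agent.Nodes.BNOf
  Cfsg.Agent.Nodes.StabComb Cfsg.Agent.Nodes.Bruhat Cfsg.Agent.Nodes.OppDec
open Cfsg.Agent.H622.Levi
open Cfsg.Agent.LieRecognition.BNCox (cA)
open Matrix

variable {I W Y : Type*} [Fintype I] [DecidableEq I] [Group W] [Group Y] {M : CoxeterMatrix I}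
  {cs : CoxeterSystem M W} {A : I → I → ℤ} {h : IsCartan M A} {r : ℕ} {T : Subgroup Y} {n : I → Y}
  {X : (I → ℤ) → Subgroup Y}

theorem rep_sr_self (i : I) : rep cs h (cs.simple i) (sr i) = -sr i := by
  rw [rep_simple]
  exact refl_single_self h i 1

section mu

variable [Finite W] (R : RGD cs h r T n X)
include R

theorem cj_n (i : I) : cj (n i) (X (sr i)) = X (-sr i) := by
  rw [R.conj i _ (isRoot_sr cs h i), rep_sr_self]

theorem cj_n' (i : I) : cj (n i) (X (-sr i)) = X (sr i) := by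
  rw [R.conj i _ (isRoot_sr cs h i).neg, map_neg, rep_sr_self, neg_neg]

theorem X_ne (i : I) : X (sr i) ≠ X (-sr i) := by
  intro e
  have h1 := X_inf_X R (isRoot_sr cs h i) (isRoot_sr cs h i).neg (by
    intro h2
    have h3 := congrFun h2 i
    have h4 : (sr i : I → ℤ) i = 1 := by unfold sr; simp
    rw [Pi.neg_apply, h4] at h3
    omega)
  rw [← e, inf_idem] at h1
  exact X_ne_bot R (isRoot_sr cs h i) h1

theorem eq_one_of_cj {i : I} {d : Y} (hd : d ∈ X (-sr i)) (h1 : cj d (X (sr i)) = X (sr i)) : d = 1 := by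
  by_contra hne
  obtain ⟨a, ha, t, ht, b, hb, e⟩ := R.rk1 i d hd hne
  rw [e, cj_mul, cj_mul, cj_mul, cj_eq_of_mem hb, cj_n R, R.tor _ (isRoot_sr cs h i).neg t ht] at h1
  have h2 : cj a (X (-sr i)) = cj a (X (sr i)) := by rw [h1, cj_eq_of_mem ha]
  have h3 := congrArg (cj a⁻¹) h2
  rw [← cj_mul, ← cj_mul, inv_mul_cancel, cj_one, cj_one] at h3
  exact X_ne R i h3.symm

/-- **Uniqueness of the `μ`-elements.** -/
theorem mu_mem {i : I} {x u x' : Y} (hx : x ∈ X (sr i)) (hu : u ∈ X (-sr i)) (hu1 : u ≠ 1) (hx' : x' ∈ X (sr i))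
    (h1 : cj (x * u * x') (X (sr i)) = X (-sr i)) (h2 : cj (x * u * x') (X (-sr i)) = X (sr i)) :
    ∃ t ∈ T, x * u * x' = t * n i := by
  obtain ⟨a, ha, t, ht, b, hb, e⟩ := R.rk1 i u hu hu1
  have m1 : cj (t * n i) (X (sr i)) = X (-sr i) := by
    rw [cj_mul, cj_n R, R.tor _ (isRoot_sr cs h i).neg t ht]
  have m2 : cj (t * n i) (X (-sr i)) = X (sr i) := by
    rw [cj_mul, cj_n' R, R.tor _ (isRoot_sr cs h i) t ht]
  have inv_of : ∀ {g : Y} {P Q : Subgroup Y}, cj g P = Q → cj g⁻¹ Q = P := by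
    intro g P Q hg
    rw [← hg, ← cj_mul, inv_mul_cancel, cj_one]
  set m := t * n i with hm
  have hd : m⁻¹ * (x * a) * m ∈ X (-sr i) := by
    have h3 : x * a ∈ X (sr i) := mul_mem hx ha
    rw [← m2, mem_cj] at h3
    exact h3
  have key : m⁻¹ * (x * u * x') = (m⁻¹ * (x * a) * m) * (b * x') := by
    rw [e, hm]; group
  have hc : b * x' ∈ X (sr i) := mul_mem hb hx'
  have hd1 : m⁻¹ * (x * a) * m = 1 := by
    apply eq_one_of_cj R hd
    have h3 : m⁻¹ * (x * a) * m = m⁻¹ * (x * u * x') * (b * x')⁻¹ := by rw [key]; group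
    rw [h3, cj_mul, cj_eq_of_mem (inv_mem hc), cj_mul, h1, inv_of m1]
  rw [hd1, one_mul] at key
  have hc1 : n i * (b * x') * (n i)⁻¹ = 1 := by
    apply eq_one_of_cj R
    · rw [← cj_n R]
      exact conj_mem_cj.2 hc
    · rw [cj_mul, cj_mul, inv_of (cj_n' R i), ← key, cj_mul, h2, inv_of m2, cj_n' R]
  have hc2 : b * x' = 1 := by
    have : b * x' = (n i)⁻¹ * (n i * (b * x') * (n i)⁻¹) * n i := by group
    rw [this, hc1]; group
  rw [hc2] at key
  exact ⟨t, ht, (inv_mul_eq_one.1 key).symm⟩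

end mu

section sl3

open Cfsg.Agent.TitsThree.KSideA (tv tv_of_ne tv_add tv_zero tv_neg tv_comm)

variable {F : Type} [Field F]

/-- `diag (s, s⁻¹, 1)` -/
def d0 (s : F) (hs : s ≠ 0) : _root_.Matrix.SpecialLinearGroup (Fin 3) F :=
  ⟨!![s, 0, 0; 0, s⁻¹, 0; 0, 0, 1], by rw [Matrix.det_fin_three]; simp [hs]⟩

/-- `diag (1, s, s⁻¹)` -/
def d1 (s : F) (hs : s ≠ 0) : _root_.Matrix.SpecialLinearGroup (Fin 3) F :=
  ⟨!![1, 0, 0; 0, s, 0; 0, 0, s⁻¹], by rw [Matrix.det_fin_three]; simp [hs]⟩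

/-- the monomial element of the first node -/
noncomputable def w0 (s : F) : _root_.Matrix.SpecialLinearGroup (Fin 3) F := tv 0 1 s * tv 1 0 (-s⁻¹) * tv 0 1 s

/-- the monomial element of the second node -/
noncomputable def w1 (s : F) : _root_.Matrix.SpecialLinearGroup (Fin 3) F := tv 1 2 s * tv 2 1 (-s⁻¹) * tv 1 2 s

theorem val_w0 {s : F} (hs : s ≠ 0) : (w0 s).1 = !![0, s, 0; -s⁻¹, 0, 0; 0, 0, 1] := by
  change (tv 0 1 s : _root_.Matrix.SpecialLinearGroup (Fin 3) F).1 * (tv 1 0 (-s⁻¹) : _root_.Matrix.SpecialLinearGroup (Fin 3) F).1 *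
    (tv 0 1 s : _root_.Matrix.SpecialLinearGroup (Fin 3) F).1 = _
  rw [val_tv (by decide), val_tv (by decide)]
  ext i j
  (revert i j; simp only [Matrix.mul_apply, Fin.sum_univ_three, Matrix.single_apply, Matrix.one_apply, hs, _root_.Fin.forall_fin_succ, Fin.isValue, _root_.Matrix.add_apply, _root_.one_ne_zero, _root_.and_false, ↓reduceIte, _root_.add_zero, _root_.false_and, _root_.mul_ite, _root_.mul_one, _root_.MulZeroClass.mul_zero, _root_.and_true, _root_.true_and, Fin.reduceEq, _root_.zero_add, _root_.mul_neg, _root_.zero_ne_one, _root_.Matrix.of_apply, _root_.Matrix.cons_val', _root_.Matrix.cons_val_fin_one, _root_.Matrix.cons_val_zero, _root_.Matrix.cons_val_succ, _root_.Fin.succ_zero_eq_one, _root_.Fin.succ_one_eq_two, _root_.IsEmpty.forall_iff, _root_.ne_eq, _root_.not_false_eq_true, _root_.mul_inv_cancel₀, _root_.add_neg_cancel, _root_.MulZeroClass.zero_mul, _root_.and_self, _root_.Fin.succ_ne_zero, _root_.neg_mul, _root_.inv_mul_cancel_right₀,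 _root_.neg_add_rev, _root_.add_neg_add_add_cancel, _root_.neg_add_cancel, _root_.one_mul, _root_.neg_eq_zero, _root_.mul_eq_zero, _root_.inv_eq_zero, _root_.or_false, _root_.ite_eq_left_iff, _root_.imp_false, _root_.Decidable.not_not])

theorem val_w1 {s : F} (hs : s ≠ 0) : (w1 s).1 = !![1, 0, 0; 0, 0, s; 0, -s⁻¹, 0] := by
  change (tv 1 2 s : _root_.Matrix.SpecialLinearGroup (Fin 3) F).1 * (tv 2 1 (-s⁻¹) : _root_.Matrix.SpecialLinearGroup (Fin 3) F).1 *
    (tv 1 2 s : _root_.Matrix.SpecialLinearGroup (Fin 3) F).1 = _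
  rw [val_tv (by decide), val_tv (by decide)]
  ext i j
  (revert i j; simp only [Matrix.mul_apply, Fin.sum_univ_three, Matrix.single_apply, Matrix.one_apply, hs, _root_.Fin.forall_fin_succ, Fin.isValue, _root_.Matrix.add_apply, Fin.reduceEq, _root_.and_false, ↓reduceIte, _root_.add_zero, _root_.false_and, _root_.mul_ite, _root_.mul_one, _root_.MulZeroClass.mul_zero, _root_.and_true, _root_.true_and, _root_.one_ne_zero, _root_.zero_ne_one, _root_.zero_add, _root_.mul_neg, _root_.Matrix.of_apply, _root_.Matrix.cons_val', _root_.Matrix.cons_val_fin_one, _root_.Matrix.cons_val_zero, _root_.Matrix.cons_val_succ, _root_.Fin.succ_zero_eq_one, _root_.Fin.succ_one_eq_two, _root_.IsEmpty.forall_iff, _root_.MulZeroClass.zero_mul, _root_.neg_zero, _root_.and_self, _root_.Fin.succ_ne_zero, _root_.ne_eq, _root_.not_false_eq_true, _root_.mul_inv_cancel₀, _root_.add_neg_cancel, _root_.one_mul, _root_.neg_mul, _root_.inv_mul_cancel₀, _root_.neg_add_cancel])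

theorem w0_eq {s : F} (hs : s ≠ 0) : w0 s = d0 s hs * w0 1 := by
  apply Subtype.ext
  change (w0 s).1 = !![s, 0, 0; 0, s⁻¹, 0; 0, 0, 1] * (w0 1).1
  rw [val_w0 hs, val_w0 one_ne_zero]
  ext i j
  (revert i j; simp only [Matrix.mul_apply, Fin.sum_univ_three, _root_.Fin.forall_fin_succ, _root_.Matrix.of_apply, _root_.Matrix.cons_val', _root_.Matrix.cons_val_fin_one, _root_.inv_one, Fin.isValue, _root_.Matrix.cons_val_zero, _root_.Matrix.cons_val_one, _root_.Matrix.cons_val, _root_.MulZeroClass.mul_zero, _root_.mul_neg, _root_.mul_one, _root_.zero_add, _root_.add_zero, _root_.Matrix.cons_val_succ, _root_.implies_true, _root_.and_self, _root_.and_true, _root_.neg_zero])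

theorem w1_eq {s : F} (hs : s ≠ 0) : w1 s = d1 s hs * w1 1 := by
  apply Subtype.ext
  change (w1 s).1 = !![1, 0, 0; 0, s, 0; 0, 0, s⁻¹] * (w1 1).1
  rw [val_w1 hs, val_w1 one_ne_zero]
  ext i j
  (revert i j; simp only [Matrix.mul_apply, Fin.sum_univ_three, _root_.Fin.forall_fin_succ, _root_.Matrix.of_apply, _root_.Matrix.cons_val', _root_.Matrix.cons_val_fin_one, _root_.inv_one, Fin.isValue, _root_.Matrix.cons_val_zero, _root_.Matrix.cons_val_one, _root_.Matrix.cons_val, _root_.mul_one, _root_.MulZeroClass.mul_zero, _root_.add_zero, _root_.Matrix.cons_val_succ, _root_.mul_neg, _root_.zero_add, _root_.implies_true, _root_.and_true, _root_.true_and, _root_.neg_zero, _root_.and_self])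

theorem w0_a {s : F} (hs : s ≠ 0) (t : F) : w0 s * tv 0 1 t = tv 1 0 (-(t / s ^ 2)) * w0 s := by
  apply Subtype.ext
  change (w0 s).1 * (tv 0 1 t : _root_.Matrix.SpecialLinearGroup (Fin 3) F).1 = (tv 1 0 (-(t / s ^ 2)) : _root_.Matrix.SpecialLinearGroup (Fin 3) F).1 * (w0 s).1
  rw [val_w0 hs, val_tv (by decide), val_tv (by decide)]
  ext i j
  (revert i j; simp only [Matrix.mul_apply, Fin.sum_univ_three, Matrix.single_apply, Matrix.one_apply, _root_.Fin.forall_fin_succ, Fin.isValue, _root_.Matrix.of_apply, _root_.Matrix.cons_val', _root_.Matrix.cons_val_fin_one, _root_.Matrix.add_apply, _root_.Matrix.cons_val_zero, _root_.true_and, _root_.Matrix.cons_val_one, _root_.zero_ne_one, _root_.false_and, ↓reduceIte, _root_.add_zero, _root_.mul_ite, _root_.mul_one, _root_.MulZeroClass.mul_zero, _root_.Matrix.cons_val, Fin.reduceEq, _root_.and_true, _root_.and_false, _root_.ite_mul, _root_.one_mul, _root_.MulZeroClass.zero_mul, _root_.one_ne_zero,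 _root_.zero_add, _root_.ite_self, _root_.Matrix.cons_val_succ, _root_.Fin.succ_zero_eq_one, _root_.Fin.succ_one_eq_two, _root_.IsEmpty.forall_iff, _root_.and_self, _root_.Fin.succ_ne_zero, _root_.neg_mul, _root_.neg_inj, _root_.right_eq_ite_iff, _root_.zero_eq_neg, _root_.inv_eq_zero, _root_.mul_eq_zero, _root_.div_eq_zero_iff, _root_.ne_eq, _root_.OfNat.ofNat_ne_zero, _root_.not_false_eq_true, _root_.pow_eq_zero_iff, _root_.or_self_right, _root_.left_eq_ite_iff, _root_.imp_false, _root_.Decidable.not_not]) <;> (repeat' with_reducible apply And.intro) <;>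
    field_simp

theorem w0_b {s : F} (hs : s ≠ 0) (t : F) : w0 s * tv 1 0 t = tv 0 1 (-(t * s ^ 2)) * w0 s := by
  apply Subtype.ext
  change (w0 s).1 * (tv 1 0 t : _root_.Matrix.SpecialLinearGroup (Fin 3) F).1 = (tv 0 1 (-(t * s ^ 2)) : _root_.Matrix.SpecialLinearGroup (Fin 3) F).1 * (w0 s).1
  rw [val_w0 hs, val_tv (by decide), val_tv (by decide)]
  ext i j
  (revert i j; simp only [Matrix.mul_apply, Fin.sum_univ_three, Matrix.single_apply, Matrix.one_apply, _root_.Fin.forall_fin_succ, Fin.isValue, _root_.Matrix.of_apply, _root_.Matrix.cons_val', _root_.Matrix.cons_val_fin_one, _root_.Matrix.add_apply, _root_.Matrix.cons_val_zero, _root_.one_ne_zero, _root_.false_and, ↓reduceIte, _root_.add_zero, _root_.mul_ite, _root_.mul_one, _root_.MulZeroClass.mul_zero, _root_.Matrix.cons_val_one, _root_.true_and, _root_.Matrix.cons_val, Fin.reduceEq, _root_.and_false, _root_.ite_mul, _root_.one_mul, _root_.MulZeroClass.zero_mul, _root_.and_true, _root_.zero_add,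 _root_.ite_self, _root_.mul_neg, _root_.Matrix.cons_val_succ, _root_.Fin.succ_zero_eq_one, _root_.zero_ne_one, _root_.Fin.succ_one_eq_two, _root_.IsEmpty.forall_iff, _root_.neg_mul, _root_.neg_neg, _root_.and_self, _root_.Fin.succ_ne_zero, _root_.zero_eq_neg, _root_.mul_eq_zero, _root_.inv_eq_zero, _root_.left_eq_ite_iff, _root_.imp_false, _root_.Decidable.not_not, _root_.true_or]) <;> (repeat' with_reducible apply And.intro) <;>
    field_simp

theorem w1_a {s : F} (hs : s ≠ 0) (t : F) : w1 s * tv 1 2 t = tv 2 1 (-(t / s ^ 2)) * w1 s := by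
  apply Subtype.ext
  change (w1 s).1 * (tv 1 2 t : _root_.Matrix.SpecialLinearGroup (Fin 3) F).1 = (tv 2 1 (-(t / s ^ 2)) : _root_.Matrix.SpecialLinearGroup (Fin 3) F).1 * (w1 s).1
  rw [val_w1 hs, val_tv (by decide), val_tv (by decide)]
  ext i j
  (revert i j; simp only [Matrix.mul_apply, Fin.sum_univ_three, Matrix.single_apply, Matrix.one_apply, _root_.Fin.forall_fin_succ, Fin.isValue, _root_.Matrix.of_apply, _root_.Matrix.cons_val', _root_.Matrix.cons_val_fin_one, _root_.Matrix.add_apply, _root_.Matrix.cons_val_zero, _root_.one_ne_zero, _root_.false_and, ↓reduceIte, _root_.add_zero, _root_.mul_ite, _root_.mul_one, _root_.MulZeroClass.mul_zero, _root_.Matrix.cons_val_one, _root_.true_and, _root_.Matrix.cons_val, Fin.reduceEq, _root_.and_false, _root_.ite_mul, _root_.one_mul, _root_.MulZeroClass.zero_mul, _root_.and_true, _root_.ite_self, _root_.Matrix.cons_val_succ, _root_.Fin.succ_zero_eq_one, _root_.zero_ne_one, _root_.zero_add, _root_.Fin.succ_one_eq_two,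 _root_.IsEmpty.forall_iff, _root_.and_self, _root_.Fin.succ_ne_zero, _root_.left_eq_ite_iff, _root_.neg_eq_zero, _root_.inv_eq_zero, _root_.neg_mul, _root_.not_true_eq_false, _root_.neg_inj]) <;> (repeat' with_reducible apply And.intro) <;>
    field_simp

theorem w1_b {s : F} (hs : s ≠ 0) (t : F) : w1 s * tv 2 1 t = tv 1 2 (-(t * s ^ 2)) * w1 s := by
  apply Subtype.ext
  change (w1 s).1 * (tv 2 1 t : _root_.Matrix.SpecialLinearGroup (Fin 3) F).1 = (tv 1 2 (-(t * s ^ 2)) : _root_.Matrix.SpecialLinearGroup (Fin 3) F).1 * (w1 s).1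
  rw [val_w1 hs, val_tv (by decide), val_tv (by decide)]
  ext i j
  (revert i j; simp only [Matrix.mul_apply, Fin.sum_univ_three, Matrix.single_apply, Matrix.one_apply, _root_.Fin.forall_fin_succ, Fin.isValue, _root_.Matrix.of_apply, _root_.Matrix.cons_val', _root_.Matrix.cons_val_fin_one, _root_.Matrix.add_apply, _root_.Matrix.cons_val_zero, Fin.reduceEq, _root_.false_and, ↓reduceIte, _root_.add_zero, _root_.mul_ite, _root_.mul_one, _root_.MulZeroClass.mul_zero, _root_.Matrix.cons_val_one, _root_.Matrix.cons_val, _root_.true_and, _root_.and_false, _root_.ite_mul, _root_.one_mul, _root_.MulZeroClass.zero_mul, _root_.and_true, _root_.one_ne_zero, _root_.ite_self, _root_.Matrix.cons_val_succ, _root_.Fin.succ_zero_eq_one, _root_.zero_ne_one, _root_.zero_add, _root_.mul_neg, _root_.Fin.succ_one_eq_two, _root_.IsEmpty.forall_iff, _root_.neg_zero, _root_.and_self, _root_.Fin.succ_ne_zero, _root_.neg_mul, _root_.neg_neg, _root_.neg_inj, _root_.right_eq_ite_iff])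 <;> (repeat' with_reducible apply And.intro) <;>
    field_simp

theorem d0_tv {s : F} (hs : s ≠ 0) (t : F) : d0 s hs * tv 0 1 t = tv 0 1 (s ^ 2 * t) * d0 s hs := by
  apply Subtype.ext
  change !![s, 0, 0; 0, s⁻¹, 0; 0, 0, 1] * (tv 0 1 t : _root_.Matrix.SpecialLinearGroup (Fin 3) F).1 =
    (tv 0 1 (s ^ 2 * t) : _root_.Matrix.SpecialLinearGroup (Fin 3) F).1 * !![s, 0, 0; 0, s⁻¹, 0; 0, 0, 1]
  rw [val_tv (by decide), val_tv (by decide)]
  ext i j
  (revert i j; simp only [Matrix.mul_apply, Fin.sum_univ_three, Matrix.single_apply, Matrix.one_apply, _root_.Fin.forall_fin_succ, Fin.isValue, _root_.Matrix.of_apply, _root_.Matrix.cons_val', _root_.Matrix.cons_val_fin_one, _root_.Matrix.add_apply, _root_.Matrix.cons_val_zero, _root_.true_and, _root_.Matrix.cons_val_one, _root_.zero_ne_one, _root_.false_and, ↓reduceIte, _root_.add_zero, _root_.mul_ite, _root_.mul_one, _root_.MulZeroClass.mul_zero, _root_.Matrix.cons_val, Fin.reduceEq, _root_.one_ne_zero,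 _root_.and_false, _root_.ite_mul, _root_.one_mul, _root_.MulZeroClass.zero_mul, _root_.and_true, _root_.ite_self, _root_.Matrix.cons_val_succ, _root_.Fin.succ_zero_eq_one, _root_.zero_add, _root_.Fin.succ_one_eq_two, _root_.IsEmpty.forall_iff, _root_.Fin.succ_ne_zero, _root_.and_self, _root_.zero_eq_mul, _root_.inv_eq_zero, _root_.left_eq_ite_iff, _root_.imp_false, _root_.Decidable.not_not, _root_.true_or]) <;> (repeat' with_reducible apply And.intro) <;>
    field_simp

theorem d1_tv (t : F) : d1 (-1 : F) (neg_ne_zero.2 one_ne_zero) * tv 0 1 t =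
    tv 0 1 (-t) * d1 (-1 : F) (neg_ne_zero.2 one_ne_zero) := by
  apply Subtype.ext
  change !![1, 0, 0; 0, (-1 : F), 0; 0, 0, (-1 : F)⁻¹] * (tv 0 1 t : _root_.Matrix.SpecialLinearGroup (Fin 3) F).1 =
    (tv 0 1 (-t) : _root_.Matrix.SpecialLinearGroup (Fin 3) F).1 * !![1, 0, 0; 0, (-1 : F), 0; 0, 0, (-1 : F)⁻¹]
  rw [val_tv (by decide), val_tv (by decide)]
  ext i j
  (revert i j; simp only [Matrix.mul_apply, Fin.sum_univ_three, Matrix.single_apply, Matrix.one_apply, _root_.Fin.forall_fin_succ, _root_.inv_neg, _root_.inv_one, Fin.isValue, _root_.Matrix.of_apply, _root_.Matrix.cons_val', _root_.Matrix.cons_val_fin_one, _root_.Matrix.add_apply, _root_.Matrix.cons_val_zero, _root_.true_and, _root_.Matrix.cons_val_one, _root_.zero_ne_one, _root_.false_and, ↓reduceIte, _root_.add_zero, _root_.mul_ite, _root_.mul_one, _root_.MulZeroClass.mul_zero, _root_.Matrix.cons_val, Fin.reduceEq, _root_.one_ne_zero, _root_.and_false, _root_.ite_mul, _root_.one_mul,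 _root_.MulZeroClass.zero_mul, _root_.and_true, _root_.ite_self, _root_.Matrix.cons_val_succ, _root_.Fin.succ_zero_eq_one, _root_.zero_add, _root_.mul_neg, _root_.neg_add_rev, _root_.Fin.succ_one_eq_two, _root_.IsEmpty.forall_iff, _root_.neg_neg, _root_.neg_zero, _root_.and_self, _root_.Fin.succ_ne_zero, _root_.left_eq_ite_iff, _root_.neg_eq_zero, _root_.imp_false, _root_.Decidable.not_not])

theorem d0_mul {s t : F} (hs : s ≠ 0) (ht : t ≠ 0) : d0 s hs * d0 t ht = d0 (s * t) (mul_ne_zero hs ht) := by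
  apply Subtype.ext
  change !![s, 0, 0; 0, s⁻¹, 0; 0, 0, 1] * !![t, 0, 0; 0, t⁻¹, 0; 0, 0, 1] = !![s * t, 0, 0; 0, (s * t)⁻¹, 0; 0, 0, 1]
  ext i j
  (revert i j; simp only [Matrix.mul_apply, Fin.sum_univ_three, mul_comm, _root_.Fin.forall_fin_succ, _root_.Matrix.of_apply, _root_.Matrix.cons_val', _root_.Matrix.cons_val_fin_one, Fin.isValue, _root_.Matrix.cons_val_zero, _root_.Matrix.cons_val_one, _root_.Matrix.cons_val, _root_.mul_inv_rev, _root_.MulZeroClass.zero_mul, _root_.add_zero, _root_.Matrix.cons_val_succ, _root_.zero_add, _root_.one_mul, _root_.implies_true, _root_.and_true, _root_.MulZeroClass.mul_zero, _root_.and_self])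

theorem d0_pow {s : F} (hs : s ≠ 0) (m : ℕ) : d0 s hs ^ m = d0 (s ^ m) (pow_ne_zero m hs) := by
  induction m with
  | zero =>
    rw [pow_zero]
    apply Subtype.ext
    change (1 : Matrix (Fin 3) (Fin 3) F) = !![s ^ 0, 0, 0; 0, (s ^ 0)⁻¹, 0; 0, 0, 1]
    ext i j
    (revert i j; simp only [_root_.Fin.forall_fin_succ, _root_.pow_zero, _root_.inv_one, _root_.Matrix.of_apply, _root_.Matrix.cons_val', _root_.Matrix.cons_val_fin_one, Fin.isValue, _root_.Matrix.cons_val_zero, _root_.Matrix.cons_val_succ, _root_.IsEmpty.forall_iff, _root_.and_true, _root_.Matrix.one_apply_eq, Nat.reduceAdd, _root_.Fin.succ_zero_eq_one, _root_.ne_eq, _root_.zero_ne_one, _root_.not_false_eq_true, _root_.Matrix.one_apply_ne, _root_.Fin.succ_one_eq_two, Fin.reduceEq, _root_.and_self, _root_.Fin.succ_ne_zero, _root_.true_and])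
  | succ m ih =>
    rw [pow_succ, ih, d0_mul]
    congr 1
    rw [pow_succ]

theorem d0_one : d0 (1 : F) one_ne_zero = 1 := by
  apply Subtype.ext
  change !![(1 : F), 0, 0; 0, (1 : F)⁻¹, 0; 0, 0, 1] = (1 : Matrix (Fin 3) (Fin 3) F)
  ext i j
  (revert i j; simp only [_root_.Fin.forall_fin_succ, _root_.inv_one, _root_.Matrix.of_apply, _root_.Matrix.cons_val', _root_.Matrix.cons_val_fin_one, Fin.isValue, _root_.Matrix.cons_val_zero, _root_.Matrix.cons_val_succ, _root_.IsEmpty.forall_iff, _root_.and_true, _root_.Matrix.one_apply_eq, Nat.reduceAdd, _root_.Fin.succ_zero_eq_one, _root_.ne_eq, _root_.zero_ne_one, _root_.not_false_eq_true, _root_.Matrix.one_apply_ne, _root_.Fin.succ_one_eq_two, Fin.reduceEq, _root_.and_self, _root_.Fin.succ_ne_zero, _root_.true_and])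

theorem d1_sq : d1 (-1 : F) (neg_ne_zero.2 one_ne_zero) ^ 2 = 1 := by
  rw [sq]
  apply Subtype.ext
  change !![1, 0, 0; 0, (-1 : F), 0; 0, 0, (-1 : F)⁻¹] * !![1, 0, 0; 0, (-1 : F), 0; 0, 0, (-1 : F)⁻¹] =
    (1 : Matrix (Fin 3) (Fin 3) F)
  ext i j
  (revert i j; simp only [Matrix.mul_apply, Fin.sum_univ_three, _root_.Fin.forall_fin_succ, _root_.inv_neg, _root_.inv_one, _root_.Matrix.of_apply, _root_.Matrix.cons_val', _root_.Matrix.cons_val_fin_one, Fin.isValue, _root_.Matrix.cons_val_zero, _root_.Matrix.cons_val_one, _root_.Matrix.cons_val, _root_.mul_one, _root_.MulZeroClass.mul_zero, _root_.add_zero, _root_.Matrix.cons_val_succ, _root_.mul_neg, _root_.zero_add, _root_.IsEmpty.forall_iff, _root_.and_true, _root_.Matrix.one_apply_eq, _root_.neg_zero, Nat.reduceAdd, _root_.Fin.succ_zero_eq_one, _root_.ne_eq, _root_.zero_ne_one, _root_.not_false_eq_true, _root_.Matrix.one_apply_ne, _root_.Fin.succ_one_eq_two, Fin.reduceEq, _root_.and_self,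 _root_.Fin.succ_ne_zero, _root_.neg_neg, _root_.true_and])

end sl3

section co

open Cfsg.Agent.TitsThree.KSideA (tv tv_of_ne tv_add tv_zero tv_neg tv_comm)

theorem cj_eq {P Q : Subgroup Y} {g : Y} (h1 : ∀ x ∈ P, g * x * g⁻¹ ∈ Q) (h2 : ∀ x ∈ Q, g⁻¹ * x * g ∈ P) :
    cj g P = Q := by
  ext x
  rw [mem_cj]
  constructor
  · intro hx
    have := h1 _ hx
    have e : g * (g⁻¹ * x * g) * g⁻¹ = x := by group
    rwa [e] at this
  · exact h2 x

variable {F : Type} [Field F] {φ : _root_.Matrix.SpecialLinearGroup (Fin 3) F →* Y} {k : Fin 2 → I} (C : Co X k F φ)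

theorem cj_of_mul {P Q : Subgroup Y} {w : _root_.Matrix.SpecialLinearGroup (Fin 3) F} {a b c d : Fin 3}
    (hP : ∀ x, x ∈ P ↔ ∃ t, φ (tv a b t) = x) (hQ : ∀ x, x ∈ Q ↔ ∃ t, φ (tv c d t) = x)
    (h1 : ∀ t, ∃ t', w * tv a b t = tv c d t' * w) (h2 : ∀ t', ∃ t, w * tv a b t = tv c d t' * w) :
    cj (φ w) P = Q := by
  apply cj_eq
  · intro x hx
    obtain ⟨t, rfl⟩ := (hP x).1 hx
    obtain ⟨t', e⟩ := h1 t
    refine (hQ _).2 ⟨t', ?_⟩
    rw [← map_mul, e, map_mul, mul_inv_cancel_right]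
  · intro x hx
    obtain ⟨t', rfl⟩ := (hQ x).1 hx
    obtain ⟨t, e⟩ := h2 t'
    refine (hP _).2 ⟨t, ?_⟩
    rw [mul_assoc, ← map_mul φ (tv c d t'), ← e, map_mul, inv_mul_cancel_left]

include C in
theorem Co.mem {a b : Fin 3} (hab : a ≠ b) (x : Y) : x ∈ X (cr k a b) ↔ ∃ t, φ (tv a b t) = x := by
  have h1 : x ∈ X (cr k a b) ↔ x ∈ (X (cr k a b) : Set Y) := Iff.rfl
  rw [h1, C.root a b hab, Set.mem_range]
  simp only [tv_of_ne hab]

variable [Finite W] (R : RGD cs h r T n X)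
include R C

theorem Co.d0_mem {s : F} (hs : s ≠ 0) : φ (d0 s hs) ∈ T := by
  have hinj : Function.Injective fun t : F => φ (tv 1 0 t) := tv_injective C.ker (by decide)
  have e01 : cr k 0 1 = sr (k 0) := cr_succ k 0
  have e10 : cr k 1 0 = -sr (k 0) := by rw [← e01, cr_neg]
  have key : ∀ s : F, s ≠ 0 → ∃ t ∈ T, φ (w0 s) = t * n (k 0) := by
    intro s hs
    have e : φ (w0 s) = φ (tv 0 1 s) * φ (tv 1 0 (-s⁻¹)) * φ (tv 0 1 s) := by
      rw [← map_mul, ← map_mul]; rfl
    rw [e]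
    have hP := Co.mem C (a := 0) (b := 1) (by decide)
    have hQ := Co.mem C (a := 1) (b := 0) (by decide)
    rw [e01] at hP
    rw [e10] at hQ
    refine mu_mem R ((hP _).2 ⟨_, rfl⟩) ((hQ _).2 ⟨_, rfl⟩) ?_ ((hP _).2 ⟨_, rfl⟩) ?_ ?_
    · intro h1
      have h2 : (-s⁻¹ : F) = 0 := hinj (by
        change φ (tv 1 0 (-s⁻¹)) = φ (tv 1 0 0)
        rw [h1, tv_zero, map_one])
      exact hs (inv_eq_zero.1 (neg_eq_zero.1 h2))
    · rw [← e]
      refine cj_of_mul hP hQ (fun t => ⟨_, w0_a hs t⟩) (fun t' => ⟨-(t' * s ^ 2), ?_⟩)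
      rw [w0_a hs]
      congr 2
      field_simp
    · rw [← e]
      refine cj_of_mul hQ hP (fun t => ⟨_, w0_b hs t⟩) (fun t' => ⟨-(t' / s ^ 2), ?_⟩)
      rw [w0_b hs]
      congr 2
      field_simp
  obtain ⟨t, ht, e1⟩ := key s hs
  obtain ⟨t', ht', e2⟩ := key 1 one_ne_zero
  have e3 : φ (d0 s hs) = t * t'⁻¹ := by
    have h1 : d0 s hs = w0 s * (w0 1)⁻¹ := by rw [w0_eq hs]; group
    rw [h1, map_mul, map_inv, e1, e2]
    group
  rw [e3]
  exact mul_mem ht (inv_mem ht')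

theorem Co.d1_mem {s : F} (hs : s ≠ 0) : φ (d1 s hs) ∈ T := by
  have hinj : Function.Injective fun t : F => φ (tv 2 1 t) := tv_injective C.ker (by decide)
  have e12 : cr k 1 2 = sr (k 1) := cr_succ k 1
  have e21 : cr k 2 1 = -sr (k 1) := by rw [← e12, cr_neg]
  have key : ∀ s : F, s ≠ 0 → ∃ t ∈ T, φ (w1 s) = t * n (k 1) := by
    intro s hs
    have e : φ (w1 s) = φ (tv 1 2 s) * φ (tv 2 1 (-s⁻¹)) * φ (tv 1 2 s) := by
      rw [← map_mul, ← map_mul]; rfl
    rw [e]
    have hP := Co.mem C (a := 1) (b := 2) (by decide)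
    have hQ := Co.mem C (a := 2) (b := 1) (by decide)
    rw [e12] at hP
    rw [e21] at hQ
    refine mu_mem R ((hP _).2 ⟨_, rfl⟩) ((hQ _).2 ⟨_, rfl⟩) ?_ ((hP _).2 ⟨_, rfl⟩) ?_ ?_
    · intro h1
      have h2 : (-s⁻¹ : F) = 0 := hinj (by
        change φ (tv 2 1 (-s⁻¹)) = φ (tv 2 1 0)
        rw [h1, tv_zero, map_one])
      exact hs (inv_eq_zero.1 (neg_eq_zero.1 h2))
    · rw [← e]
      refine cj_of_mul hP hQ (fun t => ⟨_, w1_a hs t⟩) (fun t' => ⟨-(t' * s ^ 2), ?_⟩)
      rw [w1_a hs]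
      congr 2
      field_simp
    · rw [← e]
      refine cj_of_mul hQ hP (fun t => ⟨_, w1_b hs t⟩) (fun t' => ⟨-(t' / s ^ 2), ?_⟩)
      rw [w1_b hs]
      congr 2
      field_simp
  obtain ⟨t, ht, e1⟩ := key s hs
  obtain ⟨t', ht', e2⟩ := key 1 one_ne_zero
  have e3 : φ (d1 s hs) = t * t'⁻¹ := by
    have h1 : d1 s hs = w1 s * (w1 1)⁻¹ := by rw [w1_eq hs]; group
    rw [h1, map_mul, map_inv, e1, e2]
    group
  rw [e3]
  exact mul_mem ht (inv_mem ht')

omit C in
/-- **A torus element of order `p` without fixed points on the root group of a node.** -/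
theorem exists_t [Finite Y] {i j : I} (hM : M i j = 3) {p : ℕ} (hp : p.Prime)
    (hq : p ∣ Nat.card (X (sr i)) - 1) :
    ∃ t ∈ T, t ^ p = 1 ∧ ∀ u ∈ X (sr i), t * u = u * t → u = 1 := by
  obtain ⟨k, hk0, hk1, hK, hk⟩ := exists_chain hM
  obtain ⟨F, _, _, φ, C⟩ := exists_co R le_rfl k hk
  have hcard := C.card 0
  rw [hk0] at hcard
  rw [hcard] at hq
  have hinj : Function.Injective fun t : F => φ (tv 0 1 t) := tv_injective C.ker (by decide)
  have e01 : cr k 0 1 = sr (k 0) := cr_succ k 0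
  have hP := Co.mem C (a := 0) (b := 1) (by decide)
  rw [e01, hk0] at hP
  have hfix : ∀ {g : _root_.Matrix.SpecialLinearGroup (Fin 3) F} {f : F → F}, (∀ t, g * tv 0 1 t = tv 0 1 (f t) * g) →
      (∀ t, f t = t → t = 0) → ∀ u ∈ X (sr i), φ g * u = u * φ g → u = 1 := by
    intro g f h1 h2 u hu h3
    obtain ⟨t, rfl⟩ := (hP u).1 hu
    rw [← map_mul, h1, map_mul] at h3
    have h4 : f t = t := hinj (mul_right_cancel h3)
    rw [h2 t h4, tv_zero, map_one]
  rcases hp.eq_two_or_odd' with rfl | hodd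
  · have h2 : (2 : F) ≠ 0 := by
      intro h2
      have h3 : CharP F 2 := CharTwo.of_one_ne_zero_of_two_eq_zero one_ne_zero h2
      obtain ⟨m, hp, hm⟩ := FiniteField.card F 2
      rw [Nat.card_eq_fintype_card, hm] at hq
      have h4 : 2 ∣ 2 ^ (m : ℕ) := dvd_pow_self 2 m.ne_zero
      have h5 : 1 ≤ 2 ^ (m : ℕ) := Nat.one_le_two_pow
      omega
    refine ⟨φ (d1 (-1) (neg_ne_zero.2 one_ne_zero)), Co.d1_mem C R _, ?_, hfix (f := fun t => -t) d1_tv ?_⟩
    · rw [← map_pow, d1_sq, map_one]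
    · intro t ht
      have h3 : 2 * t = 0 := by
        have h4 : -t = t := ht
        rw [two_mul]
        nth_rewrite 1 [← h4]
        exact neg_add_cancel t
      exact (mul_eq_zero.1 h3).resolve_left h2
  · have hu : p ∣ Nat.card Fˣ := by rwa [Nat.card_units]
    have : Fact p.Prime := ⟨hp⟩
    obtain ⟨z, hz⟩ := exists_prime_orderOf_dvd_card' p hu
    refine ⟨φ (d0 (z : F) z.ne_zero), Co.d0_mem C R _, ?_, hfix (f := fun t => (z : F) ^ 2 * t) (d0_tv z.ne_zero) ?_⟩
    · rw [← map_pow, d0_pow]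
      have h1 : (z : F) ^ p = 1 := by
        rw [← Units.val_pow_eq_pow_val, ← hz, pow_orderOf_eq_one, Units.val_one]
      have h2 : d0 ((z : F) ^ p) (pow_ne_zero p z.ne_zero) = d0 1 one_ne_zero := by
        congr 1
      rw [h2, d0_one, map_one]
    · intro t ht
      by_contra ht0
      have h1 : (z : F) ^ 2 = 1 := by
        have h2 : (z : F) ^ 2 * t = 1 * t := by rw [one_mul]; exact ht
        exact mul_right_cancel₀ ht0 h2
      have h2 : z ^ 2 = 1 := by
        apply Units.ext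
        rw [Units.val_pow_eq_pow_val, h1, Units.val_one]
      have h3 : p ∣ 2 := by rw [← hz]; exact orderOf_dvd_of_pow_eq_one h2
      have h4 := (Nat.prime_dvd_prime_iff_eq hp Nat.prime_two).1 h3
      subst h4
      exact absurd hodd (by decide)

omit C in
/-- **A `p`-subgroup of the torus without fixed points on `U`.** -/
theorem exists_Q [Finite Y] (hT : ∀ a ∈ T, ∀ b ∈ T, a * b = b * a) (hb : ∀ i, ∃ j, M i j = 3) {p : ℕ}
    (hp : p.Prime) (hq : ∀ i, p ∣ Nat.card (X (sr i)) - 1) :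
    ∃ Q : Subgroup Y, Q ≤ T ∧ IsPGroup p Q ∧ (∀ i, ∀ q ∈ Q, n i * q * (n i)⁻¹ ∈ Q) ∧
      ∀ u ∈ RGD.Sup X (RGD.Pos cs h), (∀ q ∈ Q, q * u = u * q) → u = 1 := by
  let Q : Subgroup Y :=
    { carrier := {t | t ∈ T ∧ t ^ p = 1}
      mul_mem' := by
        rintro a b ⟨ha, ha1⟩ ⟨hb, hb1⟩
        refine ⟨mul_mem ha hb, ?_⟩
        rw [(show Commute a b from hT a ha b hb).mul_pow, ha1, hb1, one_mul]
      one_mem' := ⟨one_mem T, one_pow p⟩
      inv_mem' := by
        rintro a ⟨ha, ha1⟩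
        exact ⟨inv_mem ha, by rw [inv_pow, ha1, inv_one]⟩ }
  have hQ : ∀ t, t ∈ Q ↔ t ∈ T ∧ t ^ p = 1 := fun _ => Iff.rfl
  have hn : ∀ i, ∀ q ∈ Q, n i * q * (n i)⁻¹ ∈ Q := by
    intro i q hq
    obtain ⟨h1, h2⟩ := (hQ q).1 hq
    refine (hQ _).2 ⟨(Subgroup.mem_normalizer_iff.1 (R.nsys.norm i) q).1 h1, ?_⟩
    rw [conj_pow, h2, mul_one, mul_inv_cancel]
  refine ⟨Q, fun t ht => ht.1, ?_, hn, H40.GGR.cent_U_of_simple R Q (fun t ht => ht.1) hn ?_⟩
  · intro t
    refine ⟨1, ?_⟩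
    rw [pow_one]
    exact Subtype.ext t.2.2
  · intro i u hu hc
    obtain ⟨j, hj⟩ := hb i
    obtain ⟨t, ht, htp, h1⟩ := exists_t R hj hp (hq i)
    exact h1 u hu (hc t ⟨ht, htp⟩)

end co

end Cfsg.Agent.H64.Dl

private theorem dce_bd2808404afb : _root_.True := by
  try have : _root_.True := by simp only [_root_.Cfsg.Agent.H64.Dl.d0.congr_simp]
  try have : _root_.True := by simp only [_root_.Cfsg.Agent.H64.Dl.d1.congr_simp]
  exact _root_.True.intro
end

-- part: H64/Dl/ExcK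
section
set_option linter.all false
open scoped Cfsg.Agent.FastGrp

/-!
# Characters of different Harish-Chandra types in the exceptional groups (helper64, task DL-EXC-K of S4769)

`p` a prime dividing `q - 1`: `many_E6 : Many p S 5`, `many_E7 : Many p S 6`, `many_E8 : Many p S 7`,
`many_F4 : Many p S 4`, `many_TwE6 : Many p S 4`.
-/

set_option autoImplicit false
set_option linter.unusedSectionVars false

namespace Cfsg.Agent.H64.Dl

open CoxeterSystem Cfsg.Agent.ChevalleyStructure.CoxeterGeom Cfsg.Agent.Tits.Roots Cfsg.Agent.Tits.Core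
  Cfsg.Agent.Tits.Exchange Cfsg.Agent.Nodes.Reps Cfsg.Agent.Nodes.BNOf Cfsg.Agent.Nodes.StabComb
  Cfsg.Agent.Nodes.LeviDec
open Cfsg.Agent.LieRecognition.BNCox (cA cA_apply)
open Cfsg.Agent.H53.HC Cfsg.Agent.H53.HC.ExcRows Cfsg.Agent.H35.ExcIdx Cfsg.Agent.H246.Dl

universe u

section gen

variable {r q l : ℕ} {M : CoxeterMatrix (Fin l)} {A : Fin l → Fin l → ℤ} {h : IsCartan M A} {f : Fin l → ℕ}
  {S : Type*} [Group S] {T : Subgroup S} {n : Fin l → S} {X : (Fin l → ℤ) → Subgroup S}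

/-- a chain of nodes, one node included -/
theorem in_path [Finite S] {J : Set (Fin l)} (D : ExcData r q h f J T n X) (hb : ∀ i, ∃ j, M i j = 3) {m : ℕ}
    (hm : 1 ≤ m) (k : Fin m ↪ Fin l) (hk : ∀ i j, M (k i) (k j) = cA m i j) : In h X (Set.range k) := by
  rcases Nat.lt_or_ge m 2 with h2 | h2
  · obtain rfl : m = 1 := by omega
    obtain ⟨j, hj⟩ := hb (k 0)
    have h3 : Set.range k = {k 0} := by
      ext x
      constructor
      · rintro ⟨i, rfl⟩
        rw [Subsingleton.elim i 0]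
        rfl
      · rintro rfl
        exact ⟨0, rfl⟩
    rw [h3]
    exact in_node D _ j hj
  · exact in_chain D h2 k hk

/-- **A chain of nodes.** -/
theorem many_path [Finite S] {J : Set (Fin l)} (D : ExcData r q h f J T n X) (hr : r.Prime)
    (hT : ∀ a ∈ T, ∀ b ∈ T, a * b = b * a) (hb : ∀ i, ∃ j, M i j = 3) {p : ℕ} (hp : p.Prime) (hpr : p ≠ r)
    (hq : ∀ i, p ∣ f i - 1) {m : ℕ} (k : Fin m ↪ Fin l) (hk : ∀ i j, M (k i) (k j) = cA m i j) : Many p S m := by
  have := D.fin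
  have : Fact p.Prime := ⟨hp⟩
  have : Fact r.Prime := ⟨hr⟩
  obtain ⟨Q, hQT, hQ, -, hC⟩ := exists_Q D.rgd hT hb hp (fun i => by rw [D.size]; exact hq i)
  let k' : ∀ i : Fin m, Fin ((i : ℕ) + 1) ↪ Fin l := fun i => (Fin.castLEEmb i.2).trans k
  have hk' : ∀ (i : Fin m) (a : Fin ((i : ℕ) + 1)), k' i a = k ⟨a, lt_of_lt_of_le a.2 i.2⟩ := fun _ _ => rfl
  refine many_of_chain D.rgd D.gg hpr Q hQ hQT hC (fun i => Set.range (k' i)) (fun i => ⟨_, 0, rfl⟩) (fun i => ?_) ?_
  · refine in_path D hb (by omega) (k' i) fun a b => ?_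
    rw [hk', hk', hk, cA_apply, cA_apply]
  · intro i j hij
    constructor
    · rintro _ ⟨a, rfl⟩
      refine ⟨⟨a, by have := a.2; have : (i : ℕ) < j := hij; omega⟩, ?_⟩
      rw [hk', hk']
    · intro hcon
      obtain ⟨a, ha⟩ := hcon ⟨⟨j, by omega⟩, rfl⟩
      rw [hk', hk'] at ha
      have h1 := k.injective ha
      have h2 : (a : ℕ) = j := congrArg Fin.val h1
      have h3 := a.2
      have h4 : (i : ℕ) < j := hij
      omega

end gen

section f4

variable {r q l : ℕ} {A : Fin 4 → Fin 4 → ℤ} {h : IsCartan CoxeterMatrix.F₄ A} {f : Fin 4 → ℕ}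
  {S : Type*} [Group S] {T : Subgroup S} {n : Fin 4 → S} {X : (Fin 4 → ℤ) → Subgroup S}

/-- the chain `0, 1` of `F₄` -/
def k4 : Fin 2 ↪ Fin 4 := ⟨![0, 1], by decide⟩

theorem range_k4 : Set.range k4 = {0, 1} := by
  ext x
  simp only [Set.mem_range, Set.mem_insert_iff, Set.mem_singleton_iff]
  revert x; decide

theorem hk4 : ∀ i j, m4 (k4 i) (k4 j) = ExcRows.mA 2 i j := by decide +kernel

theorem hb4 : ∀ i, ∃ j, m4 i j = 3 := by decide +kernel

theorem path01 : PathOK CoxeterMatrix.F₄ [0, 1] [0, 1] [] 0 := by constructor <;> decide +kernel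
theorem path03 : PathOK CoxeterMatrix.F₄ [0, 3] [0] [3] 0 := by constructor <;> decide +kernel
theorem path3 : PathOK CoxeterMatrix.F₄ [3] [3] [] 0 := by constructor <;> decide +kernel

/-- **Type `F₄`.** -/
theorem many_f4 [Finite S] {J : Set (Fin 4)} (D : ExcData r q h f J T n X) (hr : r.Prime)
    (hT : ∀ a ∈ T, ∀ b ∈ T, a * b = b * a) {p : ℕ} (hp : p.Prime) (hpr : p ≠ r) (hq : ∀ i, p ∣ f i - 1)
    (hf : f 1 = f 0) (hf3 : 1 + f 0 + f 0 ^ 2 ≠ 1 + f 3) : Many p S 4 := by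
  have := D.fin
  have : Fact p.Prime := ⟨hp⟩
  have : Fact r.Prime := ⟨hr⟩
  have hb : ∀ i, ∃ j, CoxeterMatrix.F₄ i j = 3 := hb4
  obtain ⟨Q, hQT, hQ, -, hC⟩ := exists_Q D.rgd hT hb hp (fun i => by rw [D.size]; exact hq i)
  have i0 : In h X {0} := in_node D 0 1 (by decide +kernel)
  have i3 : In h X {3} := in_node D 3 2 (by decide +kernel)
  have i01 : In h X {0, 1} := by rw [← range_k4]; exact in_chain D le_rfl k4 hk4
  have i03 : In h X ({0} ∪ {3}) := In.union D i0 i3 (by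
    rintro i rfl j rfl
    decide +kernel)
  have i013 : In h X ({0, 1} ∪ {3}) := In.union D i01 i3 (by
    rintro i (rfl | rfl) j rfl
    · decide +kernel
    · decide +kernel)
  have s03 : ({0} ∪ {3} : Set (Fin 4)) = {0, 3} := rfl
  have s013 : ({0, 1} ∪ {3} : Set (Fin 4)) = {0, 1, 3} := by
    ext x
    simp only [Set.mem_union, Set.mem_insert_iff, Set.mem_singleton_iff]
    tauto
  rw [s03] at i03
  rw [s013] at i013
  have c01 : Nat.card ↥(PJ CoxeterMatrix.F₄.toCoxeterSystem h T X {0, 1}) =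
      FA 2 (f 0) * 1 * Nat.card ↥(RGD.B CoxeterMatrix.F₄.toCoxeterSystem h T X) := by
    have h1 := card_step D.rgd path01 (y := f 0) (fun i hi => by rw [D.size]; revert i; simp [hf]) (card_nil D.rgd)
    have e : ({j | j ∈ ([0, 1] : List (Fin 4))} : Set (Fin 4)) = {0, 1} := by ext x; simp
    rwa [e] at h1
  have c03 : Nat.card ↥(PJ CoxeterMatrix.F₄.toCoxeterSystem h T X {0, 3}) =
      FA 1 (f 0) * (FA 1 (f 3) * 1) * Nat.card ↥(RGD.B CoxeterMatrix.F₄.toCoxeterSystem h T X) := by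
    have h0 := card_step D.rgd path3 (y := f 3) (fun i hi => by rw [D.size]; revert i; simp) (card_nil D.rgd)
    have h1 := card_step D.rgd path03 (y := f 0) (fun i hi => by rw [D.size]; revert i; simp) h0
    have e : ({j | j ∈ ([0, 3] : List (Fin 4))} : Set (Fin 4)) = {0, 3} := by ext x; simp
    rwa [e] at h1
  have hne : Nat.card ↥(PJ CoxeterMatrix.F₄.toCoxeterSystem h T X {0, 1}) ≠
      Nat.card ↥(PJ CoxeterMatrix.F₄.toCoxeterSystem h T X {0, 3}) := by
    rw [c01, c03]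
    intro e
    have h1 := Nat.eq_of_mul_eq_mul_right Nat.card_pos e
    simp only [FA, Finset.prod_range_succ, Finset.prod_range_zero, Finset.sum_range_succ,
      Finset.sum_range_zero] at h1
    apply hf3
    have h2 : (1 + f 0) * (1 + f 0 + f 0 ^ 2) = (1 + f 0) * (1 + f 3) := by
      have h3 : (1 + f 0) * (1 + f 0 + f 0 ^ 2) = 1 * (0 + f 0 ^ 0 + f 0 ^ 1) * (0 + f 0 ^ 0 + f 0 ^ 1 + f 0 ^ 2) * 1 := by
        ring
      rw [h3]
      refine Eq.trans ?_ (h1.trans ?_)
      · ring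
      · ring
    exact Nat.eq_of_mul_eq_mul_left (by omega) h2
  have n0 : ({0} : Set (Fin 4)).ncard = 1 := Set.ncard_singleton _
  have n01 : ({0, 1} : Set (Fin 4)).ncard = 2 := Set.ncard_pair (by decide)
  have n03 : ({0, 3} : Set (Fin 4)).ncard = 2 := Set.ncard_pair (by decide)
  have n013 : ({0, 1, 3} : Set (Fin 4)).ncard = 3 := by
    rw [Set.ncard_insert_of_notMem (by simp), Set.ncard_pair (by decide)]
  refine many_of_cusps D.rgd D.gg hpr Q hQ hQT hC ![{0}, {0, 1}, {0, 3}, {0, 1, 3}] (fun i => ?_) (fun i => ?_)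
    (fun i j hij => ?_)
  · fin_cases i
    · exact ⟨0, rfl⟩
    · exact ⟨0, Or.inl rfl⟩
    · exact ⟨0, Or.inl rfl⟩
    · exact ⟨0, Or.inl rfl⟩
  · fin_cases i
    · exact i0
    · exact i01
    · exact i03
    · exact i013
  · fin_cases i <;> fin_cases j
    all_goals first
      | exact absurd hij (by decide)
      | (left; exact hne)
      | (right; simp [n0, n01, n03, n013]; done)

end f4

/-! ### the split groups -/

section split

open Cfsg.Lie Cfsg.Agent.Nodes.RGDChev Cfsg.Agent.ChevalleyStructure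

theorem diag_comm' {D : ChevalleyDatum} (hD : Elts.InList D) {K : Type u} [Field K] {a b : GL D.Idx K}
    (ha : a ∈ D.diagonalSubgroup K) (hb : b ∈ D.diagonalSubgroup K) : a * b = b * a := by
  obtain ⟨χ, hχ⟩ := HMatDiagAll.mem_torus.1 (HMatDiagAll.diagonalSubgroup_le_torus hD ha)
  obtain ⟨ψ, hψ⟩ := HMatDiagAll.mem_torus.1 (HMatDiagAll.diagonalSubgroup_le_torus hD hb)
  apply Units.ext
  rw [Units.val_mul, Units.val_mul, hχ, hψ, Matrix.diagonal_mul_diagonal, Matrix.diagonal_mul_diagonal]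
  congr 1
  funext i
  exact mul_comm _ _

theorem TT_comm {D : ChevalleyDatum} (hD : Elts.InList D) {K : Type u} [Field K] :
    ∀ a ∈ TT D K, ∀ b ∈ TT D K, a * b = b * a := fun a ha b hb =>
  Subtype.ext (diag_comm' hD (Subgroup.mem_subgroupOf.1 ha) (Subgroup.mem_subgroupOf.1 hb))

/-- the chain of `E₆` -/
def p6 : Fin 5 ↪ Fin 6 := ⟨![0, 2, 3, 4, 5], by decide⟩
/-- the chain of `E₇` -/
def p7 : Fin 6 ↪ Fin 7 := ⟨![0, 2, 3, 4, 5, 6], by decide⟩
/-- the chain of `E₈` -/
def p8 : Fin 7 ↪ Fin 8 := ⟨![0, 2, 3, 4, 5, 6, 7], by decide⟩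

theorem hp6 : ∀ i j, m6 (p6 i) (p6 j) = ExcRows.mA 5 i j := by decide +kernel
theorem hp7 : ∀ i j, m7 (p7 i) (p7 j) = ExcRows.mA 6 i j := by decide +kernel
theorem hp8 : ∀ i j, m8 (p8 i) (p8 j) = ExcRows.mA 7 i j := by decide +kernel
theorem hb6 : ∀ i, ∃ j, m6 i j = 3 := by decide +kernel
theorem hb7 : ∀ i, ∃ j, m7 i j = 3 := by decide +kernel
theorem hb8 : ∀ i, ∃ j, m8 i j = 3 := by decide +kernel

variable {K : Type u} [Field K] [Fintype K] {S : Type*} [Group S] {p : ℕ} (hp : p.Prime)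
  (hq : p ∣ Fintype.card K - 1)

include hp hq

theorem exists_char_pow : ∃ (r f : ℕ), r.Prime ∧ f ≠ 0 ∧ Fintype.card K = r ^ f ∧ CharP K r ∧ p ≠ r ∧ p ∣ r ^ f - 1 := by
  obtain ⟨r, hr⟩ := CharP.exists K
  obtain ⟨f, hpr, hf⟩ := FiniteField.card K r
  refine ⟨r, f, hpr, f.ne_zero, hf, hr, ?_, by rwa [← hf]⟩
  rintro rfl
  rw [hf] at hq
  have h1 : p ∣ p ^ (f : ℕ) := dvd_pow_self p f.ne_zero
  have h2 : 1 ≤ p ^ (f : ℕ) := Nat.one_le_pow _ _ hp.pos
  have h3 : p ∣ 1 := by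
    have h5 := Nat.dvd_sub h1 hq
    rwa [Nat.sub_sub_self h2] at h5
  exact hp.one_lt.ne' (Nat.dvd_one.1 h3)

/-- **`E₆(q)`, `p ∣ q - 1`.** -/
theorem many_E6 (e : S ≃* ↥(chevE6.group K)) : Many p S 5 := by
  obtain ⟨r, f, hr, hf, hK, hch, hpr, hd⟩ := exists_char_pow hp hq
  have := finite_group (K := K) chevE6
  exact Many.of_equiv e (many_path (data_E6_3 hr hf hK) hr (TT_comm (IsType.inList hpE6)) hb6 hp hpr (fun _ => hd)
    p6 hp6)

/-- **`E₇(q)`, `p ∣ q - 1`.** -/
theorem many_E7 (e : S ≃* ↥(chevE7.group K)) : Many p S 6 := by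
  obtain ⟨r, f, hr, hf, hK, hch, hpr, hd⟩ := exists_char_pow hp hq
  have := finite_group (K := K) chevE7
  exact Many.of_equiv e (many_path (data_E7_3 hr hf hK) hr (TT_comm (IsType.inList hpE7)) hb7 hp hpr (fun _ => hd)
    p7 hp7)

/-- **`E₈(q)`, `p ∣ q - 1`.** -/
theorem many_E8 (e : S ≃* ↥(chevE8.group K)) : Many p S 7 := by
  obtain ⟨r, f, hr, hf, hK, hch, hpr, hd⟩ := exists_char_pow hp hq
  have := finite_group (K := K) chevE8
  exact Many.of_equiv e (many_path (data_E8_3 hr hf hK) hr (TT_comm (IsType.inList hpE8)) hb8 hp hpr (fun _ => hd)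
    p8 hp8)

/-- **`F₄(q)`, `p ∣ q - 1`.** -/
theorem many_F4 (e : S ≃* ↥(chevF4.group K)) : Many p S 4 := by
  obtain ⟨r, f, hr, hf, hK, hch, hpr, hd⟩ := exists_char_pow hp hq
  have := finite_group (K := K) chevF4
  refine Many.of_equiv e (many_f4 (data_F4_2 hr hf hK) hr (TT_comm (IsType.inList hpF4)) hp hpr (fun _ => hd) rfl ?_)
  have h2 := two_le hr hf
  have h3 : 0 < (r ^ f) ^ 2 := by positivity
  omega

end split

section tw

open Cfsg.Lie Cfsg.Agent.Nodes

theorem T_comm_tw {K : Type u} [Field K] {q : ℕ} :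
    ∀ a ∈ RGDTwE6.T K q, ∀ b ∈ RGDTwE6.T K q, a * b = b * a := fun a ha b hb =>
  Subtype.ext (diag_comm' (RGDChev.IsType.inList RGDTwE6.hp) (Subgroup.mem_subgroupOf.1 ha).1
    (Subgroup.mem_subgroupOf.1 hb).1)

/-- **`²E₆(q)`, `p ∣ q - 1`.** -/
theorem many_TwE6 {K : Type u} [Field K] [Fintype K] {q : ℕ} (hq : IsPrimePow q) (hK : Fintype.card K = q ^ 2)
    {S : Type*} [Group S] {p : ℕ} (hp : p.Prime) (hpq : p ∣ q - 1) (e : S ≃* ↥(twistedE6 K q)) : Many p S 4 := by
  obtain ⟨r, f, hr, hf, hqf⟩ := (isPrimePow_nat_iff q).1 hq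
  have h2q : 2 ≤ q := hq.two_le
  have hch : CharP K r := by
    obtain ⟨r', hch⟩ := CharP.exists K
    obtain ⟨g, hr', hK'⟩ := FiniteField.card K r'
    have h1 : r' = r := by
      have h2 : r' ∣ r ^ (f * 2) := by
        rw [pow_mul, hqf, ← hK, hK']
        exact dvd_pow_self _ g.ne_zero
      exact (Nat.prime_dvd_prime_iff_eq hr' hr).1 (hr'.dvd_of_dvd_pow h2)
    rwa [h1] at hch
  have hpr : p ≠ r := by
    rintro rfl
    have h1 : p ∣ q := by rw [← hqf]; exact dvd_pow_self p hf.ne'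
    have h3 : p ∣ 1 := by
      have h5 := Nat.dvd_sub h1 hpq
      rwa [Nat.sub_sub_self (by omega)] at h5
    exact hp.one_lt.ne' (Nat.dvd_one.1 h3)
  obtain ⟨φ, hφ, hqq⟩ := Cfsg.Agent.ChevalleyStructure.TwE6Basic.exists_frob hq hK
  have : Finite ↥(twistedE6 K q) := by
    have : Finite (GL chevE6.Idx K) := by
      have : Finite (Matrix chevE6.Idx chevE6.Idx K) := inferInstance
      infer_instance
    infer_instance
  have D := data_TwE6_2 hr hf.ne' hqf.symm hφ hqq hK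
  have hd2 : p ∣ q ^ 2 - 1 := by
    have h1 : q ^ 2 - 1 = (q - 1) * (q + 1) := by
      obtain ⟨x, rfl⟩ := Nat.exists_eq_add_of_le h2q
      have : (2 + x) ^ 2 = (2 + x - 1) * (2 + x + 1) + 1 := by
        have e : 2 + x - 1 = x + 1 := by omega
        rw [e]; ring
      omega
    rw [h1]
    exact Dvd.dvd.mul_right hpq _
  refine Many.of_equiv e (many_f4 D hr T_comm_tw hp hpr (fun i => ?_) rfl ?_)
  · unfold fE
    split_ifs
    · exact hpq
    · exact hd2
  · change 1 + q + q ^ 2 ≠ 1 + q ^ 2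
    omega

end tw

end Cfsg.Agent.H64.Dl
end
end
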